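import Groth.Prelude.Def_CGrpSh
import Mathlib.Algebra.Homology.DerivedCategory.Ext.ExtClass
import Mathlib.Algebra.Homology.DerivedCategory.Ext.ExactSequences
import Mathlib.Algebra.Homology.ShortComplex.ShortExact

/-!
# Extensions with the same class, and homomorphisms from maps of sheaves of points
-/

set_option autoImplicit false
universe w v u

open CategoryTheory CategoryTheory.Limits MonoidalCategory CartesianMonoidalCategory MonObj AlgebraicGeometry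
open Opposite Abelian

namespace Groth.Agent.ExtIso

section Abelian

variable {C : Type u} [Category.{v} C] [CategoryTheory.Abelian C] [HasExt.{w} C]

/-- Two extensions with the same class are equivalent. -/
theorem exists_iso_of_extClass_eq {A B₁ B₂ Q : C} {f₁ : A ⟶ B₁} {g₁ : B₁ ⟶ Q} {z₁ : f₁ ≫ g₁ = 0}
    {f₂ : A ⟶ B₂} {g₂ : B₂ ⟶ Q} {z₂ : f₂ ≫ g₂ = 0}
    (h₁ : (ShortComplex.mk f₁ g₁ z₁).ShortExact) (h₂ : (ShortComplex.mk f₂ g₂ z₂).ShortExact)
    (hcl : h₁.extClass = h₂.extClass) :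
    ∃ e : B₁ ≅ B₂, f₁ ≫ e.hom = f₂ ∧ e.hom ≫ g₂ = g₁ := by
  have hz : (Ext.mk₀ g₁).comp h₂.extClass (zero_add 1) = 0 := by
    rw [← hcl]
    exact h₁.comp_extClass
  obtain ⟨x, hx⟩ := Ext.covariant_sequence_exact₃ B₁ h₂ (Ext.mk₀ g₁) (n₁ := 1) rfl hz
  obtain ⟨φ, rfl⟩ := (Ext.mk₀_bijective B₁ B₂).2 x
  rw [Ext.mk₀_comp_mk₀] at hx
  have hφ : φ ≫ g₂ = g₁ := (Ext.mk₀_bijective _ _).1 hx
  have hk : (f₁ ≫ φ) ≫ g₂ = 0 := by rw [Category.assoc, hφ, z₁]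
  have hlim : IsLimit (KernelFork.ofι f₂ z₂) := h₂.fIsKernel
  let a : A ⟶ A := hlim.lift (KernelFork.ofι (f₁ ≫ φ) hk)
  have ha : a ≫ f₂ = f₁ ≫ φ := hlim.fac (KernelFork.ofι (f₁ ≫ φ) hk) WalkingParallelPair.zero
  let m : ShortComplex.mk f₁ g₁ z₁ ⟶ ShortComplex.mk f₂ g₂ z₂ :=
    { τ₁ := a, τ₂ := φ, τ₃ := 𝟙 Q, comm₁₂ := ha, comm₂₃ := hφ.trans (Category.comp_id _).symm }
  have hn : h₁.extClass.comp (Ext.mk₀ a) (add_zero 1) = h₂.extClass := by
    have h := ShortComplex.ShortExact.extClass_naturality h₁ h₂ m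
    rwa [Ext.mk₀_id_comp] at h
  have hd : h₁.extClass.comp (Ext.mk₀ (a - 𝟙 A)) (add_zero 1) = 0 := by
    rw [sub_eq_add_neg, Ext.mk₀_add, Ext.comp_add, hn, Ext.mk₀_neg, Ext.comp_neg, Ext.comp_mk₀_id, hcl,
      add_neg_cancel]
  obtain ⟨y, hy⟩ := Ext.contravariant_sequence_exact₁ h₁ A (Ext.mk₀ (a - 𝟙 A)) (n₁ := 1) rfl hd
  obtain ⟨ψ, rfl⟩ := (Ext.mk₀_bijective B₁ A).2 y
  rw [Ext.mk₀_comp_mk₀] at hy
  have hψ : f₁ ≫ ψ = a - 𝟙 A := (Ext.mk₀_bijective _ _).1 hy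
  let g : B₁ ⟶ B₂ := φ - ψ ≫ f₂
  have hf : f₁ ≫ g = f₂ := by
    simp only [g, Preadditive.comp_sub, reassoc_of% hψ, Preadditive.sub_comp, ha, Category.id_comp]
    abel
  have hg : g ≫ g₂ = g₁ := by
    simp only [g, Preadditive.sub_comp, Category.assoc, z₂, hφ, comp_zero, sub_zero]
  let m' : ShortComplex.mk f₁ g₁ z₁ ⟶ ShortComplex.mk f₂ g₂ z₂ :=
    { τ₁ := 𝟙 A, τ₂ := g, τ₃ := 𝟙 Q, comm₁₂ := (Category.id_comp _).trans hf.symm,
      comm₂₃ := hg.trans (Category.comp_id _).symm }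
  have : IsIso m'.τ₁ := inferInstanceAs (IsIso (𝟙 A))
  have : IsIso m'.τ₃ := inferInstanceAs (IsIso (𝟙 Q))
  have : IsIso g := ShortComplex.isIso₂_of_shortExact_of_isIso₁₃' m' h₁ h₂ inferInstance inferInstance
  exact ⟨asIso g, hf, hg⟩

end Abelian

section Pts

variable {S : Scheme.{u}} (K : Precoverage Scheme.{u}) [(QuotSh.J K S).Subcanonical]
  {G H : Over S} [GrpObj G] [IsCommMonObj G] [GrpObj H] [IsCommMonObj H]

/-- The morphism of schemes under a map of sheaves of points. -/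
noncomputable def homOf (φ : CGrpSh.pts K G ⟶ CGrpSh.pts K H) : G ⟶ H :=
  (φ.hom.app (op G) (ULift.up (Additive.ofMul (𝟙 G)))).down.toMul

theorem app_eq (φ : CGrpSh.pts K G ⟶ CGrpSh.pts K H) {T : Over S} (x : T ⟶ G) :
    (φ.hom.app (op T) (ULift.up (Additive.ofMul x))).down.toMul = x ≫ homOf K φ := by
  have h := congr(($(φ.hom.naturality x.op)) (ULift.up (Additive.ofMul (𝟙 G))))
  refine Eq.trans ?_ (congrArg (fun z => (ULift.down z).toMul) h)
  exact congrArg (fun z : T ⟶ G => (φ.hom.app (op T) (ULift.up (Additive.ofMul z))).down.toMul)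
    (Category.comp_id x).symm

theorem homOf_mul (φ : CGrpSh.pts K G ⟶ CGrpSh.pts K H) {T : Over S} (x y : T ⟶ G) :
    (x * y) ≫ homOf K φ = (x ≫ homOf K φ) * (y ≫ homOf K φ) := by
  rw [← app_eq K φ x, ← app_eq K φ y, ← app_eq K φ]
  exact congrArg (fun z => (ULift.down z).toMul)
    (map_add (φ.hom.app (op T)).hom (ULift.up (Additive.ofMul x)) (ULift.up (Additive.ofMul y)))

theorem isMonHom_homOf (φ : CGrpSh.pts K G ⟶ CGrpSh.pts K H) : IsMonHom (homOf K φ) where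
  one_hom := by
    have h1 : (1 : 𝟙_ (Over S) ⟶ G) ≫ homOf K φ = 1 := by
      have h := homOf_mul K φ (1 : 𝟙_ (Over S) ⟶ G) 1
      rw [_root_.one_mul] at h
      exact left_eq_mul.mp h
    have e : ∀ (M : Over S) [GrpObj M], (1 : 𝟙_ (Over S) ⟶ M) = η[M] := fun M _ => by
      rw [Hom.one_def, toUnit_unique (toUnit (𝟙_ (Over S))) (𝟙 _), Category.id_comp]
    rw [← e G, ← e H]
    exact h1
  mul_hom := by
    have h := homOf_mul K φ (fst G G) (snd G G)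
    rw [Hom.mul_def, lift_fst_snd, Category.id_comp, Hom.mul_def, lift_fst_comp_snd_comp] at h
    exact h

theorem exists_hom (φ : CGrpSh.pts K G ⟶ CGrpSh.pts K H) :
    ∃ (g : G ⟶ H) (_ : IsMonHom g), CGrpSh.ptsMap K g = φ := by
  have := isMonHom_homOf K φ
  refine ⟨homOf K φ, this, Sheaf.hom_ext (NatTrans.ext (funext fun T => AddCommGrpCat.ext fun x => ULift.ext _ _ ?_))⟩
  exact congrArg Additive.ofMul (app_eq K φ x.down.toMul).symm

theorem ptsMap_injective {g g' : G ⟶ H} [IsMonHom g] [IsMonHom g']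
    (h : CGrpSh.ptsMap K g = CGrpSh.ptsMap K g') : g = g' := by
  have h1 := congr((($(h)).hom.app (op G) (ULift.up (Additive.ofMul (𝟙 G)))).down.toMul)
  simpa using h1

theorem ptsMap_congr {g g' : G ⟶ H} [IsMonHom g] [IsMonHom g'] (h : g = g') :
    CGrpSh.ptsMap K g = CGrpSh.ptsMap K g' := by
  subst h
  rfl

theorem exists_isIso_hom (e : CGrpSh.pts K G ≅ CGrpSh.pts K H) :
    ∃ (g : G ⟶ H) (_ : IsMonHom g), IsIso g ∧ CGrpSh.ptsMap K g = e.hom := by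
  obtain ⟨g, hg, hge⟩ := exists_hom K e.hom
  obtain ⟨g', hg', hge'⟩ := exists_hom K e.inv
  refine ⟨g, hg, ⟨⟨g', ?_, ?_⟩⟩, hge⟩
  · refine ptsMap_injective K ?_
    rw [CGrpSh.ptsMap_comp, CGrpSh.ptsMap_id, hge, hge', e.hom_inv_id]
  · refine ptsMap_injective K ?_
    rw [CGrpSh.ptsMap_comp, CGrpSh.ptsMap_id, hge, hge', e.inv_hom_id]

end Pts

end Groth.Agent.ExtIso
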